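import Groth.Agent.RegLoc6.Basic
import Mathlib

/-! Parts of regular systems of parameters. -/

set_option autoImplicit false

universe u

open IsLocalRing

namespace Groth.Agent.HomDimLib

variable {A : Type u} [CommRing A] [IsLocalRing A] [IsNoetherianRing A] {r : ℕ}

theorem span_toCotangent_eq_top {ι : Type*} (z : ι → maximalIdeal A)
    (h : Ideal.span (Set.range fun i => (z i : A)) = maximalIdeal A) :
    Submodule.span (ResidueField A) (Set.range fun i => (maximalIdeal A).toCotangent (z i)) = ⊤ := by
  rw [show (fun i => (maximalIdeal A).toCotangent (z i)) = (maximalIdeal A).toCotangent ∘ z from rfl, Set.range_comp,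
    CotangentSpace.span_image_eq_top_iff]
  apply Submodule.map_injective_of_injective (maximalIdeal A).injective_subtype
  rw [Submodule.map_span, ← Set.range_comp, Submodule.map_top, Submodule.range_subtype]
  exact h

theorem span_eq_of_toCotangent_eq_top {ι : Type*} (z : ι → maximalIdeal A)
    (h : Submodule.span (ResidueField A) (Set.range fun i => (maximalIdeal A).toCotangent (z i)) = ⊤) :
    Ideal.span (Set.range fun i => (z i : A)) = maximalIdeal A := by
  rw [show (fun i => (maximalIdeal A).toCotangent (z i)) = (maximalIdeal A).toCotangent ∘ z from rfl, Set.range_comp,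
    CotangentSpace.span_image_eq_top_iff] at h
  have := congrArg (Submodule.map (maximalIdeal A).subtype) h
  rw [Submodule.map_span, ← Set.range_comp, Submodule.map_top, Submodule.range_subtype] at this
  exact this

variable (x : Fin r → maximalIdeal A)

local notation "J" => Ideal.span (Set.range fun i => (x i : A))

theorem span_le_maximal : J ≤ maximalIdeal A := Ideal.span_le.2 (by rintro _ ⟨i, rfl⟩; exact (x i).2)

theorem isLocalRing_quot_span : IsLocalRing (A ⧸ J) :=
  haveI : Nontrivial (A ⧸ J) := Ideal.Quotient.nontrivial_iff.2 fun h =>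
    (maximalIdeal.isMaximal A).ne_top (top_le_iff.1 (h.ge.trans (span_le_maximal x)))
  IsLocalRing.of_surjective' (Ideal.Quotient.mk J) Ideal.Quotient.mk_surjective

/-- A spanning family of the cotangent space made of the `x i` and lifts of generators of the quotient. -/
theorem exists_spanning [IsLocalRing (A ⧸ J)] :
    ∃ z : Fin r ⊕ Fin (maximalIdeal (A ⧸ J)).spanFinrank → maximalIdeal A, (∀ i, z (Sum.inl i) = x i) ∧
      Submodule.span (ResidueField A) (Set.range fun i => (maximalIdeal A).toCotangent (z i)) = ⊤ := by
  classical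
  have fg := (maximalIdeal (A ⧸ J)).fg_of_isNoetherianRing
  have fin := Submodule.FG.finite_generators fg
  haveI : Fintype (maximalIdeal (A ⧸ J)).generators := fin.fintype
  let e : Fin (maximalIdeal (A ⧸ J)).spanFinrank ≃ (maximalIdeal (A ⧸ J)).generators :=
    (Fintype.equivFinOfCardEq (by rw [← Nat.card_eq_fintype_card, Nat.card_coe_set_eq, Submodule.FG.generators_ncard fg])).symm
  choose y hy using fun i => Ideal.Quotient.mk_surjective (e i : A ⧸ J)
  have hmap := RegLoc6.map_maximalIdeal_quot (R := A) J
  have hcomap : (maximalIdeal (A ⧸ J)).comap (Ideal.Quotient.mk J) = maximalIdeal A := by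
    rw [← hmap, Ideal.comap_map_of_surjective _ Ideal.Quotient.mk_surjective, ← RingHom.ker_eq_comap_bot,
      Ideal.mk_ker, sup_eq_left.2 (span_le_maximal x)]
  have hym : ∀ i, y i ∈ maximalIdeal A := fun i => by
    refine hcomap.le ?_
    rw [Ideal.mem_comap, hy]
    exact (maximalIdeal (A ⧸ J)).span_generators.le (Submodule.subset_span (e i).2)
  let z : Fin r ⊕ Fin (maximalIdeal (A ⧸ J)).spanFinrank → maximalIdeal A :=
    Sum.elim x (fun i => ⟨y i, hym i⟩)
  refine ⟨z, fun i => rfl, span_toCotangent_eq_top z ?_⟩
  have himg : (Ideal.span (Set.range y)).map (Ideal.Quotient.mk J) = maximalIdeal (A ⧸ J) := by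
    rw [Ideal.map_span, ← Set.range_comp]
    refine Eq.trans ?_ (maximalIdeal (A ⧸ J)).span_generators
    refine congrArg Ideal.span (Set.ext fun w => ⟨?_, fun hw => ⟨e.symm ⟨w, hw⟩, by simp [hy]⟩⟩)
    rintro ⟨i, rfl⟩
    simp [hy]
  rw [show (fun i => (z i : A)) = Sum.elim (fun i => (x i : A)) y by ext i; cases i <;> rfl, Set.Sum.elim_range,
    Ideal.span_union]
  refine Eq.trans ?_ ((congrArg (Ideal.comap (Ideal.Quotient.mk J)) himg).trans hcomap)
  rw [Ideal.comap_map_of_surjective _ Ideal.Quotient.mk_surjective, ← RingHom.ker_eq_comap_bot,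
    Ideal.mk_ker, sup_comm]

theorem spanFinrank_le_quot_add [IsLocalRing (A ⧸ J)] :
    (maximalIdeal A).spanFinrank ≤ r + (maximalIdeal (A ⧸ J)).spanFinrank := by
  obtain ⟨z, -, hspan⟩ := exists_spanning x
  rw [spanFinrank_maximalIdeal_eq_finrank_cotangentSpace]
  calc Module.finrank (ResidueField A) (CotangentSpace A)
      = Module.finrank (ResidueField A) (Submodule.span (ResidueField A)
          (Set.range fun i => (maximalIdeal A).toCotangent (z i))) := by rw [hspan, finrank_top]
    _ ≤ Fintype.card (Fin r ⊕ Fin (maximalIdeal (A ⧸ J)).spanFinrank) := finrank_range_le_card _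
    _ = r + (maximalIdeal (A ⧸ J)).spanFinrank := by simp

theorem quot_spanFinrank_add_le [IsLocalRing (A ⧸ J)]
    (h : LinearIndependent (ResidueField A) fun i => (maximalIdeal A).toCotangent (x i)) :
    (maximalIdeal (A ⧸ J)).spanFinrank + r ≤ (maximalIdeal A).spanFinrank := by
  classical
  let W := Submodule.span (ResidueField A) (Set.range fun i => (maximalIdeal A).toCotangent (x i))
  obtain ⟨C, hC⟩ := Submodule.exists_isCompl W
  let b := Module.finBasis (ResidueField A) C
  choose y hy using fun i => (maximalIdeal A).toCotangent_surjective (b i : CotangentSpace A)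
  let z : Fin r ⊕ Fin (Module.finrank (ResidueField A) C) → maximalIdeal A := Sum.elim x y
  have hz : Ideal.span (Set.range fun i => (z i : A)) = maximalIdeal A := by
    refine span_eq_of_toCotangent_eq_top z ?_
    have hb : C ≤ Submodule.span (ResidueField A) (Set.range fun i => (maximalIdeal A).toCotangent (y i)) := by
      intro c hc
      have := Submodule.mem_map_of_mem (f := C.subtype) (b.mem_span ⟨c, hc⟩)
      rw [Submodule.map_span, ← Set.range_comp] at this
      simp only [hy]
      exact this
    rw [show (fun i => (maximalIdeal A).toCotangent (z i)) =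
      Sum.elim (fun i => (maximalIdeal A).toCotangent (x i)) (fun i => (maximalIdeal A).toCotangent (y i)) by
        ext i; cases i <;> rfl, Set.Sum.elim_range, Submodule.span_union, eq_top_iff, ← hC.sup_eq_top]
    exact sup_le_sup_left hb W
  have hle : maximalIdeal (A ⧸ J) ≤ Ideal.span (Set.range fun i => Ideal.Quotient.mk J (y i : A)) := by
    refine ((RegLoc6.map_maximalIdeal_quot (R := A) J).symm.trans
      (congrArg (Ideal.map (Ideal.Quotient.mk J)) hz.symm)).le.trans ?_
    rw [Ideal.map_span, Ideal.span_le]
    rintro _ ⟨_, ⟨i | i, rfl⟩, rfl⟩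
    · show Ideal.Quotient.mk J (x i : A) ∈ _
      rw [Ideal.Quotient.eq_zero_iff_mem.2 (Ideal.subset_span ⟨i, rfl⟩ : (x i : A) ∈ J)]
      exact zero_mem _
    · exact Ideal.subset_span ⟨i, rfl⟩
  have heq : maximalIdeal (A ⧸ J) = Ideal.span (Set.range fun i => Ideal.Quotient.mk J (y i : A)) := by
    refine le_antisymm hle (Ideal.span_le.2 ?_)
    rintro _ ⟨i, rfl⟩
    exact (RegLoc6.map_maximalIdeal_quot (R := A) J).le (Ideal.mem_map_of_mem _ (y i).2)
  have h1 : (maximalIdeal (A ⧸ J)).spanFinrank ≤ Module.finrank (ResidueField A) C := by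
    rw [heq]
    refine (Submodule.spanFinrank_span_le_ncard_of_finite (Set.finite_range _)).trans ?_
    show (Set.range fun i => Ideal.Quotient.mk J (y i : A)).ncard ≤ _
    refine le_trans (le_of_eq (congrArg Set.ncard (Set.image_univ (f := fun i => Ideal.Quotient.mk J (y i : A))).symm)) ?_
    refine (Set.ncard_image_le Set.finite_univ).trans (le_of_eq ?_)
    simp [Set.ncard_univ]
  have h2 : Module.finrank (ResidueField A) W = r := by
    show Module.finrank (ResidueField A) (Submodule.span (ResidueField A) _) = r
    rw [finrank_span_eq_card h, Fintype.card_fin]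
  have h3 := Submodule.finrank_sup_add_finrank_inf_eq W C
  rw [hC.sup_eq_top, hC.inf_eq_bot, finrank_top, finrank_bot, add_zero, h2] at h3
  have h4 : (maximalIdeal A).spanFinrank = r + Module.finrank (ResidueField A) C :=
    (spanFinrank_maximalIdeal_eq_finrank_cotangentSpace (R := A)).trans h3
  omega

theorem regular_and_independent_iff :
    (IsRegularLocalRing A ∧
        LinearIndependent (ResidueField A) fun i => (maximalIdeal A).toCotangent (x i)) ↔
      (ringKrullDim (A ⧸ J) + r = ringKrullDim A ∧ IsRegularLocalRing (A ⧸ J)) := by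
  classical
  haveI := isLocalRing_quot_span x
  have hlb : ringKrullDim A ≤ ringKrullDim (A ⧸ J) + r := by
    refine (ringKrullDim_le_ringKrullDim_quotient_add_encard (Set.range fun i => (x i : A)) ?_).trans ?_
    · rintro _ ⟨i, rfl⟩
      rw [IsLocalRing.ringJacobson_eq_maximalIdeal]
      exact (x i).2
    · refine add_le_add le_rfl ?_
      have : (Set.range fun i => (x i : A)).encard ≤ r := by
        rw [← Set.image_univ]
        exact (Set.encard_image_le _ _).trans (by simp)
      exact_mod_cast this
  constructor
  · rintro ⟨hA, hli⟩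
    have h1 : (((maximalIdeal (A ⧸ J)).spanFinrank : WithBot ℕ∞)) + r ≤ ringKrullDim A := by
      rw [← (isRegularLocalRing_iff A).1 hA]
      exact_mod_cast quot_spanFinrank_add_le x hli
    have h2 := ringKrullDim_le_spanFinrank_maximalIdeal (A ⧸ J)
    refine ⟨le_antisymm ((add_le_add h2 le_rfl).trans h1) hlb, .of_spanFinrank_maximalIdeal_le _ ?_⟩
    exact ENat.WithBot.add_le_add_natCast_right_iff.1 (h1.trans hlb)
  · rintro ⟨hdim, hQ⟩
    have hsum : ((((maximalIdeal (A ⧸ J)).spanFinrank + r : ℕ) : ℕ) : WithBot ℕ∞) = ringKrullDim A := by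
      rw [← hdim, ← (isRegularLocalRing_iff _).1 hQ]
      push_cast
      rfl
    have hle := spanFinrank_le_quot_add x
    have hA : IsRegularLocalRing A := .of_spanFinrank_maximalIdeal_le _ (by
      rw [← hsum]; exact_mod_cast hle.trans_eq (add_comm _ _))
    refine ⟨hA, ?_⟩
    obtain ⟨z, hz, hspan⟩ := exists_spanning x
    have hcard : Fintype.card (Fin r ⊕ Fin (maximalIdeal (A ⧸ J)).spanFinrank) =
        Module.finrank (ResidueField A) (CotangentSpace A) := by
      rw [← spanFinrank_maximalIdeal_eq_finrank_cotangentSpace]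
      have h1 := (isRegularLocalRing_iff A).1 hA
      rw [← hsum] at h1
      have : (maximalIdeal A).spanFinrank = (maximalIdeal (A ⧸ J)).spanFinrank + r := by exact_mod_cast h1
      simp [this, add_comm]
    have hli := linearIndependent_of_top_le_span_of_card_eq_finrank hspan.ge hcard
    have := hli.comp Sum.inl Sum.inl_injective
    simpa [Function.comp_def, hz] using this

end Groth.Agent.HomDimLib
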