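import Groth.Agent.Hensel.DepthFlat

/-! Depth does not change under a local homomorphism along which the module is finite. -/

set_option autoImplicit false

universe u

open IsLocalRing Pointwise

namespace Groth.Agent.HomDimLib

variable {A B : Type u} [CommRing A] [CommRing B] [IsLocalRing A] [IsLocalRing B] [IsNoetherianRing A]
  [IsNoetherianRing B] [Algebra A B] [IsLocalHom (algebraMap A B)]

theorem maximal_mem_ass_of_finite (M : Type u) [AddCommGroup M] [Module B M] [Module A M] [IsScalarTower A B M]
    [Module.Finite A M] (h : maximalIdeal A ∈ associatedPrimes A M) :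
    maximalIdeal B ∈ associatedPrimes B M := by
  obtain ⟨-, z, hz⟩ := Alg6.mem_ass_iff.mp h
  have hz0 : z ≠ 0 := fun hh => (maximalIdeal.isMaximal A).ne_top
    ((Ideal.eq_top_iff_one _).mpr ((hz 1).mpr (by rw [hh, smul_zero])))
  obtain ⟨q, hq, hle⟩ := Alg6.exists_ass_ge (R := B) hz0
  obtain ⟨hqp, y, hy⟩ := Alg6.mem_ass_iff.mp hq
  haveI := hqp
  let f : (B ⧸ q) →ₗ[A] M := ((Submodule.liftQ q (LinearMap.toSpanSingleton B M y)
    (fun b hb => (hy b).mp hb)).restrictScalars A)
  have hf : Function.Injective f := (injective_iff_map_eq_zero f).mpr fun x hx => by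
    obtain ⟨b, rfl⟩ := Ideal.Quotient.mk_surjective x
    exact Ideal.Quotient.eq_zero_iff_mem.mpr ((hy b).mpr hx)
  haveI : Module.Finite A (B ⧸ q) := Module.Finite.of_injective f hf
  have hcomap : (⊥ : Ideal (B ⧸ q)).comap (algebraMap A (B ⧸ q)) = maximalIdeal A := by
    refine ((maximalIdeal.isMaximal A).eq_of_le (Ideal.comap_ne_top _ bot_ne_top) fun a ha => ?_).symm
    rw [Ideal.mem_comap, Ideal.mem_bot, IsScalarTower.algebraMap_apply A B (B ⧸ q),
      Ideal.Quotient.algebraMap_eq, Ideal.Quotient.eq_zero_iff_mem]
    exact hle _ (by rw [algebraMap_smul]; exact (hz a).mp ha)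
  have hmax : (⊥ : Ideal (B ⧸ q)).IsMaximal :=
    Ideal.isMaximal_of_isIntegral_of_isMaximal_comap (R := A) ⊥ (hcomap ▸ maximalIdeal.isMaximal A)
  have : q.IsMaximal := by
    have := Ideal.comap_isMaximal_of_surjective (Ideal.Quotient.mk q) Ideal.Quotient.mk_surjective (K := ⊥)
      (H := hmax)
    rwa [← RingHom.ker_eq_comap_bot, Ideal.mk_ker] at this
  rwa [IsLocalRing.eq_maximalIdeal this] at hq

theorem depth_eq_of_finite (M : Type u) [AddCommGroup M] [Module B M] [Module A M] [IsScalarTower A B M]
    [Module.Finite A M] : LocCoh.depth A M = LocCoh.depth B M := by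
  refine ENat.eq_of_forall_natCast_le_iff fun n => ?_
  induction n generalizing M with
  | zero => simp
  | succ n ih =>
    haveI : Module.Finite B M := Module.Finite.of_restrictScalars_finite A B M
    by_cases hass : maximalIdeal A ∈ associatedPrimes A M
    · have hassB := maximal_mem_ass_of_finite (B := B) M hass
      have h1 : ¬ ((n + 1 : ℕ) : ℕ∞) ≤ LocCoh.depth A M := fun h =>
        Alg6.one_le_depth_iff.mp (le_trans (by simp) h) hass
      have h2 : ¬ ((n + 1 : ℕ) : ℕ∞) ≤ LocCoh.depth B M := fun h =>
        Alg6.one_le_depth_iff.mp (le_trans (by simp) h) hassB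
      simp only [h1, h2]
    · obtain ⟨x, hx, hreg⟩ := (Alg6.exists_isSMulRegular_mem_iff (M := M) (maximalIdeal A)).mpr
        (fun p hp hle => hass (by
          rwa [(maximalIdeal.isMaximal A).eq_of_le (IsAssociatedPrime.isPrime hp).ne_top hle]))
      have hregB : IsSMulRegular M (algebraMap A B x) := fun a b hab => hreg (by
        simpa only [algebraMap_smul] using hab)
      let e : QuotSMulTop x M ≃ₗ[A] QuotSMulTop (algebraMap A B x) M :=
        (Submodule.quotEquivOfEq _ _ (by
          ext m
          rw [Submodule.restrictScalars_mem, Submodule.mem_smul_pointwise_iff_exists,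
            Submodule.mem_smul_pointwise_iff_exists]
          simp [algebraMap_smul])).trans
          (Submodule.Quotient.restrictScalarsEquiv A ((algebraMap A B x) • (⊤ : Submodule B M)))
      haveI : Module.Finite A (QuotSMulTop (algebraMap A B x) M) := Module.Finite.equiv e
      rw [Hensel.succ_le_depth_iff hx hreg, Hensel.succ_le_depth_iff (map_nonunit (algebraMap A B) x hx) hregB,
        Hensel.depth_congr e]
      exact ih _

end Groth.Agent.HomDimLib
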