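import Groth.Agent.LC.GorGlobal
import Groth.Agent.LC.DepthExt

/-! Homological dimensions are detected locally and on cyclic modules. -/

set_option autoImplicit false

universe u

open CategoryTheory

namespace Groth.Agent.HomDimLib

variable {A : Type u} [CommRing A] [IsNoetherianRing A]

theorem ext_subsingleton_of_cyclic (M : Type u) [AddCommGroup M] [Module A M] (n : ℕ)
    (h : ∀ I : Ideal A, Subsingleton (Abelian.Ext (ModuleCat.of A M) (ModuleCat.of A (A ⧸ I)) n))
    (L : Type u) [AddCommGroup L] [Module A L] [Module.Finite A L] :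
    Subsingleton (Abelian.Ext (ModuleCat.of A M) (ModuleCat.of A L) n) := by
  refine IsNoetherianRing.induction_on_isQuotientEquivQuotientPrime (A := A)
    (motive := fun N _ _ _ => Subsingleton (Abelian.Ext (ModuleCat.of A M) (ModuleCat.of A N) n))
    ‹Module.Finite A L› ?_ ?_ ?_
  · intro N _ _ _ _
    exact subsingleton_of_forall_eq 0 fun e => by
      rw [← Abelian.Ext.comp_mk₀_id e, show 𝟙 (ModuleCat.of A N) = 0 from
        ModuleCat.hom_ext (LinearMap.ext fun x => Subsingleton.elim _ _), Abelian.Ext.mk₀_zero,
        Abelian.Ext.comp_zero]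
  · intro N _ _ _ p e
    exact (LC.extCongr (Iso.refl (ModuleCat.of A M)) e.toModuleIso n).toEquiv.subsingleton_congr.mpr (h p.1)
  · intro N₁ _ _ _ N₂ _ _ _ N₃ _ _ _ f g hf hg hfg h1 h3
    have hS : (ShortComplex.mk (ModuleCat.ofHom f) (ModuleCat.ofHom g)
        (ModuleCat.hom_ext hfg.linearMap_comp_eq_zero)).ShortExact :=
      ModuleCat.shortComplex_shortExact _ hfg hf hg
    exact LC.ext_subsingleton_X₂ hS (ModuleCat.of A M) n h1 h3

theorem hasProjectiveDimensionLT_iff_cyclic (M : Type u) [AddCommGroup M] [Module A M] [Module.Finite A M]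
    (n : ℕ) : HasProjectiveDimensionLT (ModuleCat.of A M) n ↔
      ∀ I : Ideal A, Subsingleton (Abelian.Ext (ModuleCat.of A M) (ModuleCat.of A (A ⧸ I)) n) := by
  refine ⟨fun h I => HasProjectiveDimensionLT.subsingleton _ n n le_rfl _, fun h => ?_⟩
  refine ModuleCat.hasProjectiveDimensionLT_of_forall_finite (ModuleCat.of A M) n fun L _ => ?_
  exact ext_subsingleton_of_cyclic M n h L

theorem subsingleton_localizedModule {X : Type u} [AddCommGroup X] [Module A X] [Subsingleton X]
    (S : Submonoid A) : Subsingleton (LocalizedModule S X) :=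
  subsingleton_of_forall_eq 0 fun z => by
    induction z using LocalizedModule.induction_on with
    | h m s => rw [Subsingleton.elim m 0, LocalizedModule.zero_mk]

theorem ext_subsingleton_of_forall_localized (M : Type u) [AddCommGroup M] [Module A M] [Module.Finite A M]
    (N : Type u) [AddCommGroup N] [Module A N] (n : ℕ)
    (h : ∀ (p : Ideal A) [p.IsPrime], Subsingleton (Abelian.Ext
      (ModuleCat.of (Localization p.primeCompl) (LocalizedModule p.primeCompl M))
      (ModuleCat.of (Localization p.primeCompl) (LocalizedModule p.primeCompl N)) n)) :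
    Subsingleton (Abelian.Ext (ModuleCat.of A M) (ModuleCat.of A N) n) := by
  refine Module.subsingleton_of_localization_maximal
    (fun (m : Ideal A) _ => LocalizedModule m.primeCompl
      (Abelian.Ext (ModuleCat.of A M) (ModuleCat.of A N) n))
    (fun (m : Ideal A) _ => LocalizedModule.mkLinearMap m.primeCompl _) fun m hm => ?_
  obtain ⟨e⟩ := LC.exists_extLoc m.primeCompl N n M
  haveI := h m
  exact e.toEquiv.subsingleton

end Groth.Agent.HomDimLib
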