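import Groth.Agent.Synt29.RegSeq
import Groth.Agent.FlatLoc6.Miracle
import Groth.Agent.NFlat6.Hironaka

/-! Flatness and regular sequences over a local homomorphism. -/

set_option autoImplicit false

universe u

open IsLocalRing RingTheory.Sequence Pointwise TensorProduct

namespace Groth.Agent.HomDimLib

variable {A B : Type u} [CommRing A] [IsLocalRing A] [IsNoetherianRing A] [CommRing B] [IsLocalRing B]
  [IsNoetherianRing B] [Algebra A B] [IsLocalHom (algebraMap A B)]

/-- Flatness passes up from the quotient by a regular element of the radical. -/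
theorem flat_of_flat_quotSMulTop (K : Type u) [AddCommGroup K] [Module B K] [Module A K] [IsScalarTower A B K]
    [Module.Finite B K] {y : B} (hy : y ∈ maximalIdeal B) (hreg : IsSMulRegular K y)
    [Module.Flat A (QuotSMulTop y K)] : Module.Flat A K := by
  set m := maximalIdeal A
  refine LocalCrit.flat_of_le_jacobson (B := B) m
    ((IsLocalRing.map_maximalIdeal_le (algebraMap A B)).trans (maximalIdeal_le_jacobson ⊥)) ?_
    (LocalCrit.keepsInjective_of_isMaximal m _)
  rw [← LinearMap.lTensor_inj_iff_rTensor_inj]
  haveI : Module.Finite B (K ⊗[A] ↥m) := LocalCrit.finite_tensor (C := B) K ↥m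
  let φ : K ⊗[A] ↥m →ₗ[B] K ⊗[A] A := FlatLoc6.tmap (B := B) K m.subtype
  have hφ : ∀ x, φ x = m.subtype.lTensor K x := FlatLoc6.tmap_apply m.subtype
  let π : K →ₗ[A] QuotSMulTop y K := (Submodule.mkQ (y • ⊤ : Submodule B K)).restrictScalars A
  let μ : K →ₗ[A] K := (LinearMap.lsmul B K y).restrictScalars A
  have hπ : Function.Surjective π := Submodule.mkQ_surjective _
  have hex : Function.Exact μ π := fun k => by
    show Submodule.Quotient.mk k = 0 ↔ _
    rw [Submodule.Quotient.mk_eq_zero, Submodule.mem_smul_pointwise_iff_exists]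
    exact ⟨fun ⟨a, _, ha⟩ => ⟨a, ha⟩, fun ⟨a, ha⟩ => ⟨a, trivial, ha⟩⟩
  have hμ : ∀ (X : Type u) [AddCommGroup X] [Module A X] (x : K ⊗[A] X), μ.rTensor X x = y • x := by
    intro X _ _ x
    induction x using TensorProduct.induction_on with
    | zero => simp
    | tmul a b => simp [μ, TensorProduct.smul_tmul']
    | add p q hp hq => rw [map_add, smul_add, hp, hq]
  have hQ : Function.Injective (m.subtype.lTensor (QuotSMulTop y K)) :=
    Module.Flat.lTensor_preserves_injective_linearMap _ m.injective_subtype
  have hle : LinearMap.ker φ ≤ maximalIdeal B • LinearMap.ker φ := by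
    intro z hz
    rw [LinearMap.mem_ker] at hz
    have hz' : π.rTensor ↥m z = 0 := by
      refine hQ ?_
      rw [map_zero, ← LinearMap.comp_apply, LinearMap.lTensor_comp_rTensor, ← LinearMap.rTensor_comp_lTensor,
        LinearMap.comp_apply, ← hφ, hz, map_zero]
    obtain ⟨w, rfl⟩ := (rTensor_exact (↥m) hex hπ z).1 hz'
    rw [hμ] at hz ⊢
    refine Submodule.smul_mem_smul hy (LinearMap.mem_ker.2 ?_)
    rw [map_smul] at hz
    refine (TensorProduct.rid A K).injective ((hreg ?_).trans (map_zero _).symm)
    show y • TensorProduct.rid A K (φ w) = y • 0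
    rw [smul_zero, ← show TensorProduct.rid A K (y • φ w) = y • TensorProduct.rid A K (φ w) from
      map_smul (AlgebraTensorModule.rid A B K) y (φ w), hz, map_zero]
  have hker : LinearMap.ker φ = ⊥ := Submodule.eq_bot_of_le_smul_of_le_jacobson_bot _ _
    (IsNoetherian.noetherian _) hle (maximalIdeal_le_jacobson ⊥)
  exact (injective_iff_map_eq_zero _).2 fun z hz =>
    LinearMap.ker_eq_bot.1 hker (by rw [hφ, hz, map_zero])

/-- Flatness of the last quotient by a regular sequence gives flatness of all of them. -/
theorem flat_take_of_flat_last : ∀ (fs : List B) (K : Type u) [AddCommGroup K] [Module B K] [Module A K]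
    [IsScalarTower A B K] [Module.Finite B K], (∀ f ∈ fs, f ∈ maximalIdeal B) → IsWeaklyRegular K fs →
    Module.Flat A (K ⧸ (Ideal.ofList fs • ⊤ : Submodule B K)) → ∀ i ≤ fs.length,
      Module.Flat A (K ⧸ (Ideal.ofList (fs.take i) • ⊤ : Submodule B K)) := by
  intro fs
  induction fs with
  | nil =>
    intro K _ _ _ _ _ _ _ h i _
    rw [List.take_nil]
    exact h
  | cons y rs ih =>
    intro K _ _ _ _ _ hmem hreg h i hi
    rw [isWeaklyRegular_cons_iff] at hreg
    have h' : Module.Flat A (QuotSMulTop y K ⧸ (Ideal.ofList rs • ⊤ : Submodule B (QuotSMulTop y K))) :=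
      Module.Flat.of_linearEquiv
        ((Submodule.quotOfListConsSMulTopEquivQuotSMulTopInner K y rs).restrictScalars A).symm
    have hrec := ih (QuotSMulTop y K) (fun f hf => hmem f (List.mem_cons_of_mem _ hf)) hreg.2 h'
    rcases i with _ | j
    · haveI : Module.Flat A (QuotSMulTop y K) := by
        haveI := hrec 0 (Nat.zero_le _)
        refine Module.Flat.of_linearEquiv (M := QuotSMulTop y K ⧸ (Ideal.ofList (rs.take 0) • ⊤ : Submodule B (QuotSMulTop y K)))
          (LinearEquiv.symm ((Submodule.quotEquivOfEqBot _ (by simp)).restrictScalars A))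
      haveI := flat_of_flat_quotSMulTop (A := A) K (hmem y (List.mem_cons_self ..)) hreg.1
      exact Module.Flat.of_linearEquiv ((Submodule.quotEquivOfEqBot _ (by simp)).restrictScalars A)
    · haveI := hrec j (by simpa using hi)
      rw [List.take_succ_cons]
      exact Module.Flat.of_linearEquiv
        ((Submodule.quotOfListConsSMulTopEquivQuotSMulTopInner K y (rs.take j)).restrictScalars A)

/-- Flatness of a finite `B`-module via a regular sequence of the base. -/
theorem flat_of_flat_quot_of_regular (M : Type u) [AddCommGroup M] [Module B M] [Module A M]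
    [IsScalarTower A B M] [Module.Finite B M] (fs : List A) (hfs : ∀ f ∈ fs, f ∈ maximalIdeal A)
    (hM : IsWeaklyRegular M fs)
    (h : Module.Flat (A ⧸ Ideal.ofList fs) (M ⧸ (Ideal.ofList fs • ⊤ : Submodule A M))) : Module.Flat A M := by
  haveI := (NFlat6.flat_quot_iff (Ideal.ofList fs) M).1 h
  refine LocalCrit.flat_of_le_jacobson (B := B) (Ideal.ofList fs) ?_
    (FlatLoc6.rTensor_ofList_injective fs hM) (LocalCrit.keepsInjective_of_flat _ M)
  exact (Ideal.map_mono (Ideal.span_le.2 fun x hx => hfs x hx)).trans
    ((IsLocalRing.map_maximalIdeal_le (algebraMap A B)).trans (maximalIdeal_le_jacobson ⊥))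

end Groth.Agent.HomDimLib
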