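import Groth.Agent.TorDimLib.Res
import Groth.Agent.CAlgOdd.FiniteResolution
import Groth.Agent.RegLoc6.Pd

/-! Projective dimension and Tor with the residue field. -/

set_option autoImplicit false

universe u

open CategoryTheory TensorProduct Groth.Agent.RegLoc6 Groth.Agent.TorDimLib

namespace Groth.Agent.HomDimLib

variable {A : Type u} [CommRing A] {M : ModuleCat.{u} A} (P : ProjectiveResolution M)

theorem dP_exact (i : ℕ) : Function.Exact (dP P (i + 1)) (dP P i) :=
  (ShortComplex.ShortExact.moduleCat_exact_iff_function_exact _).1 (P.exact_succ i)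

/-- The cokernel of the `i`-th differential. -/
abbrev Cok (i : ℕ) : Type u := (P.complex.X i : Type u) ⧸ LinearMap.range (dP P i)

theorem nonempty_cok_zero : Nonempty (Cok P 0 ≃ₗ[A] M) := by
  have hs : Function.Surjective (P.π.f 0).hom := (ModuleCat.epi_iff_surjective _).1 inferInstance
  have hex : Function.Exact (dP P 0) (P.π.f 0).hom :=
    (ShortComplex.ShortExact.moduleCat_exact_iff_function_exact _).1 P.exact₀
  exact ⟨(Submodule.quotEquivOfEq _ _ hex.linearMap_ker_eq.symm).trans
    ((P.π.f 0).hom.quotKerEquivOfSurjective hs)⟩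

theorem nonempty_cok_succ (i : ℕ) : Nonempty (Cok P (i + 1) ≃ₗ[A] LinearMap.range (dP P i)) :=
  ⟨(Submodule.quotEquivOfEq _ _ (dP_exact P i).linearMap_ker_eq.symm).trans (dP P i).quotKerEquivRange⟩

theorem pdLE_cok_iff (i m : ℕ) : PdLE A (m + 1) (Cok P i) ↔ PdLE A m (Cok P (i + 1)) := by
  haveI : Module.Projective A (P.complex.X i) := (IsProjective.iff_projective _).2 (P.projective i)
  rw [pdLE_succ_iff (Submodule.mkQ (LinearMap.range (dP P i))) (Submodule.mkQ_surjective _)]
  obtain ⟨e⟩ := nonempty_cok_succ P i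
  let e' := (LinearEquiv.ofEq _ _ (Submodule.ker_mkQ (LinearMap.range (dP P i)))).trans e.symm
  exact ⟨pdLE_of_equiv e', pdLE_of_equiv e'.symm⟩

theorem pdLE_cok_add (n : ℕ) : ∀ i m, PdLE A (m + n) (Cok P i) ↔ PdLE A m (Cok P (i + n)) := by
  induction n with
  | zero => exact fun i m => Iff.rfl
  | succ n ih =>
    intro i m
    rw [show m + (n + 1) = (m + n) + 1 by omega, pdLE_cok_iff, ih, show i + 1 + n = i + (n + 1) by omega]

theorem pdLE_iff_projective_cok (n : ℕ) : PdLE A n M ↔ Module.Projective A (Cok P n) := by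
  obtain ⟨e⟩ := nonempty_cok_zero P
  rw [← pdLE_zero_iff, ← show 0 + n = n by omega]
  have h1 : PdLE A (0 + n) M ↔ PdLE A (0 + n) (Cok P 0) := ⟨pdLE_of_equiv e.symm, pdLE_of_equiv e⟩
  exact h1.trans (pdLE_cok_add P n 0 0)

theorem lTensor_exact_iff (N : Type u) [AddCommGroup N] [Module A N] (i : ℕ) :
    Function.Exact ((dP P (i + 1)).lTensor N) ((dP P i).lTensor N) ↔
      Function.Injective ((LinearMap.range (dP P i)).subtype.lTensor N) := by
  have hd : (LinearMap.range (dP P i)).subtype ∘ₗ (dP P i).rangeRestrict = dP P i :=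
    LinearMap.subtype_comp_codRestrict _ _ _
  have hrow : Function.Exact ((dP P (i + 1)).lTensor N) ((dP P i).rangeRestrict.lTensor N) := by
    refine lTensor_exact N ?_ (dP P i).surjective_rangeRestrict
    rw [LinearMap.exact_iff, LinearMap.ker_rangeRestrict]
    exact (dP_exact P i).linearMap_ker_eq
  have hs := LinearMap.lTensor_surjective N (dP P i).surjective_rangeRestrict
  constructor
  · intro h
    refine (injective_iff_map_eq_zero _).2 fun w hw => ?_
    obtain ⟨z, rfl⟩ := hs w
    rw [← LinearMap.lTensor_comp_apply, hd] at hw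
    obtain ⟨v, rfl⟩ := (h z).1 hw
    exact hrow.apply_apply_eq_zero v
  · intro h z
    refine Iff.trans ?_ (hrow z)
    conv_lhs => rw [← hd, LinearMap.lTensor_comp_apply]
    exact ⟨fun hz => h (by rw [hz, map_zero]), fun hz => by rw [hz, map_zero]⟩

theorem injective_of_projective_cok (N : Type u) [AddCommGroup N] [Module A N] (i : ℕ)
    (h : Module.Projective A (Cok P i)) :
    Function.Injective ((LinearMap.range (dP P i)).subtype.lTensor N) := by
  obtain ⟨s, hs⟩ := Module.projective_lifting_property (Submodule.mkQ (LinearMap.range (dP P i)))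
    LinearMap.id (Submodule.mkQ_surjective _)
  let r : P.complex.X i →ₗ[A] LinearMap.range (dP P i) :=
    (LinearMap.id - s ∘ₗ Submodule.mkQ (LinearMap.range (dP P i))).codRestrict _ fun x => by
      rw [← Submodule.Quotient.mk_eq_zero, ← Submodule.mkQ_apply, LinearMap.sub_apply, LinearMap.comp_apply,
        LinearMap.id_apply, map_sub, ← LinearMap.comp_apply (Submodule.mkQ _) s, hs, LinearMap.id_apply, sub_self]
  have hr : r ∘ₗ (LinearMap.range (dP P i)).subtype = LinearMap.id := LinearMap.ext fun x => Subtype.ext (by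
    show (x : P.complex.X i) - s (Submodule.Quotient.mk (x : P.complex.X i)) = x
    rw [(Submodule.Quotient.mk_eq_zero _).2 x.2, map_zero, sub_zero])
  refine Function.LeftInverse.injective (g := r.lTensor N) fun w => ?_
  rw [← LinearMap.lTensor_comp_apply, hr, LinearMap.lTensor_id, LinearMap.id_apply]

theorem free_cok [IsLocalRing A] (i : ℕ) [Module.Finite A (P.complex.X i)]
    [Module.Free A (P.complex.X i)] [Module.Finite A (P.complex.X (i + 1))]
    (h : Function.Injective ((LinearMap.range (dP P i)).subtype.lTensor (IsLocalRing.ResidueField A))) :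
    Module.Free A (Cok P i) := by
  haveI : Module.Finite A (LinearMap.range (dP P i)) := Module.Finite.range _
  exact Module.free_of_lTensor_residueField_injective (LinearMap.range (dP P i)).subtype
    (Submodule.mkQ (LinearMap.range (dP P i))) (Submodule.mkQ_surjective _)
    (LinearMap.exact_subtype_mkQ _) h

end Groth.Agent.HomDimLib
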